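import Mathlib.AlgebraicGeometry.Morphisms.OpenImmersion
import Mathlib.AlgebraicGeometry.AffineScheme
import Mathlib.AlgebraicGeometry.Restrict
import Mathlib.AlgebraicGeometry.Morphisms.IsIso
import Mathlib.RingTheory.Spectrum.Prime.Topology

/-!
# Open immersions from bijective localisations
-/

set_option autoImplicit false

universe u

open CategoryTheory AlgebraicGeometry

namespace Groth.Agent.GITZMT

theorem isOpenImmersion_of_awayMap {B R : Type u} [CommRing B] [CommRing R] (f : B →+* R)
    (h : ∀ p : PrimeSpectrum R, ∃ r : B, f r ∉ p.asIdeal ∧ Function.Bijective (Localization.awayMap f r)) :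
    IsOpenImmersion (Spec.map (CommRingCat.ofHom f)) := by
  let F := Spec.map (CommRingCat.ofHom f)
  have hiso : ∀ r : B, Function.Bijective (Localization.awayMap f r) → IsIso (F ∣_ PrimeSpectrum.basicOpen r) := by
    intro r hr
    have : IsIso (Spec.map (CommRingCat.ofHom (Localization.awayMap f r))) :=
      isIso_SpecMap_iff.mpr hr
    exact ((MorphismProperty.isomorphisms Scheme).arrow_mk_iso_iff
      (SpecMapRestrictBasicOpenIso (CommRingCat.ofHom f) r)).mpr this
  have hinj : Function.Injective F := by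
    intro p q hpq
    obtain ⟨r, hr, hb⟩ := h p
    have := hiso r hb
    have hp : p ∈ F ⁻¹ᵁ PrimeSpectrum.basicOpen r := hr
    have hq : q ∈ F ⁻¹ᵁ PrimeSpectrum.basicOpen r := show F q ∈ PrimeSpectrum.basicOpen r by rw [← hpq]; exact hr
    have := (F ∣_ PrimeSpectrum.basicOpen r).isOpenEmbedding.injective (a₁ := ⟨p, hp⟩) (a₂ := ⟨q, hq⟩)
      (Subtype.ext (by rw [morphismRestrict_base_coe, morphismRestrict_base_coe]; exact hpq))
    exact congrArg Subtype.val this
  refine IsOpenImmersion.of_forall_source_exists F hinj fun p => ?_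
  obtain ⟨r, hr, hb⟩ := h p
  have := hiso r hb
  refine ⟨(F ⁻¹ᵁ PrimeSpectrum.basicOpen r).toScheme, (F ⁻¹ᵁ PrimeSpectrum.basicOpen r).ι, inferInstance,
    (Scheme.Opens.opensRange_ι _).symm ▸ hr, ?_⟩
  rw [← morphismRestrict_ι]
  infer_instance

end Groth.Agent.GITZMT
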