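import Groth.Agent.GITZMT.Stable
import Groth.Agent.GITZMT.OpenImm
import Mathlib.RingTheory.ZariskisMainTheorem
import Mathlib.RingTheory.Adjoin.FG

/-!
# The equivariant form of Zariski's Main Theorem
-/

set_option autoImplicit false
set_option linter.style.haveILetI false

universe u

open TensorProduct CategoryTheory AlgebraicGeometry

namespace Groth.Agent.GITZMT

variable {k : Type u} [Field k] [IsAlgClosed k] [CharZero k] {A : Type u} [CommRing A] [HopfAlgebra k A]
  [Algebra.FiniteType k A]
  {S : Type u} [CommRing S] [Algebra k S] [HopfRep.Comod k A S] [GLin.IsCoactAlg k A S]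
  {R : Type u} [CommRing R] [Algebra k R] [HopfRep.Comod k A R] [GLin.IsCoactAlg k A R]
  [Algebra S R] [IsScalarTower k S R]

/-- A finite stable subalgebra with open immersion. -/
theorem exists_stable_subalgebra [Algebra.FiniteType S R] [Algebra.QuasiFinite S R]
    (hequiv : ∀ s : S, HopfRep.Comod.coact (k := k) (A := A) (algebraMap S R s) =
      Algebra.TensorProduct.map (IsScalarTower.toAlgHom k S R) (AlgHom.id k A) (HopfRep.Comod.coact (k := k) (A := A) s)) :
    ∃ B : Subalgebra S R, Module.Finite S B ∧
      HopfRep.IsSubcomod (k := k) (A := A) (B.restrictScalars k).toSubmodule ∧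
      IsOpenImmersion (Spec.map (CommRingCat.ofHom B.val.toRingHom)) := by
  classical
  haveI : Algebra.Smooth k A := smooth_hopf
  have hloc : ∀ p : PrimeSpectrum R, ∃ S' : Subalgebra S R, S'.toSubmodule.FG ∧ ∃ r : S',
      r.1 ∉ p.asIdeal ∧ Function.Bijective (Localization.awayMap S'.val.toRingHom r) := fun p =>
    Algebra.QuasiFiniteAt.exists_fg_and_exists_notMem_and_awayMap_bijective p.asIdeal
  choose S' hfg r hrp hbij using hloc
  obtain ⟨t, ht⟩ := isCompact_univ.elim_finite_subcover (fun p : PrimeSpectrum R => (PrimeSpectrum.basicOpen (r p).1 : Set (PrimeSpectrum R)))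
    (fun p => (PrimeSpectrum.basicOpen (r p).1).2) (fun q _ => Set.mem_iUnion.mpr ⟨q, hrp q⟩)
  choose gen hgen using hfg
  let C := ((integralClosure S R).restrictScalars k).toSubmodule
  have hC : HopfRep.IsSubcomod (k := k) (A := A) C := isSubcomod_integralClosure hequiv
  have hsC : ∀ p, ∀ x ∈ S' p, IsIntegral S x := fun p x hx => IsIntegral.of_mem_of_fg (S' p) ⟨gen p, hgen p⟩ x hx
  obtain ⟨U₀, hU₀f, hU₀, hU₀s⟩ := ComodLib.exists_finite_subcomod_le (k := k) (C := A) (V := R)
    (t.biUnion gen).finite_toSet
  let U := U₀ ⊓ C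
  have hU : HopfRep.IsSubcomod (k := k) (A := A) U := ComodLib.isSubcomod_iff_actF.mpr fun φ u hu =>
    ⟨ComodLib.subcomod_actF_mem hU₀s φ hu.1, ComodLib.subcomod_actF_mem hC φ hu.2⟩
  haveI : Module.Finite k U := Module.Finite.iff_fg.mpr (Submodule.FG.of_le (Module.Finite.iff_fg.mp hU₀f) inf_le_left)
  obtain ⟨gU, hgU⟩ := Module.Finite.iff_fg.mp (inferInstance : Module.Finite k U)
  let B : Subalgebra S R := Algebra.adjoin S (U : Set R)
  have hBeq : B = Algebra.adjoin S (gU : Set R) := by
    refine le_antisymm (Algebra.adjoin_le ?_) (Algebra.adjoin_mono (hgU ▸ Submodule.subset_span))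
    intro x hx
    have hx' : x ∈ Submodule.span k (gU : Set R) := hgU.ge hx
    exact (Submodule.span_le.mpr (fun y hy => Algebra.subset_adjoin hy) :
      Submodule.span k (gU : Set R) ≤ ((Algebra.adjoin S (gU : Set R)).restrictScalars k).toSubmodule) hx'
  refine ⟨B, ?_, ?_, ?_⟩
  · refine Module.Finite.iff_fg.mpr (show B.toSubmodule.FG from ?_)
    rw [hBeq]
    exact fg_adjoin_of_finite gU.finite_toSet fun x hx => (hgU ▸ Submodule.subset_span hx : x ∈ U).2
  · let Bk := B.restrictScalars k
    let T : Subalgebra k R := ((Algebra.TensorProduct.map Bk.val (AlgHom.id k A)).range).comap (GLin.coactAlgHom k A R)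
    have hT : ∀ x ∈ B, x ∈ T := by
      intro x hx
      induction hx using Algebra.adjoin_induction with
      | mem u hu =>
        obtain ⟨y, hy⟩ := hU u hu
        have hUB : U ≤ Bk.toSubmodule := fun z hz => Algebra.subset_adjoin hz
        refine ⟨(Submodule.inclusion hUB).rTensor A y, ?_⟩
        show (Bk.val.toLinearMap.rTensor A) ((Submodule.inclusion hUB).rTensor A y) = _
        rw [← LinearMap.rTensor_comp_apply]
        exact hy
      | algebraMap s =>
        refine ⟨Algebra.TensorProduct.map ((IsScalarTower.toAlgHom k S R).codRestrict Bk fun s => B.algebraMap_mem s)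
          (AlgHom.id k A) (HopfRep.Comod.coact (k := k) (A := A) s), ?_⟩
        show _ = HopfRep.Comod.coact (k := k) (A := A) (algebraMap S R s)
        rw [hequiv]
        exact ((AlgHom.congr_fun (Algebra.TensorProduct.map_comp Bk.val _ (AlgHom.id k A) (AlgHom.id k A)) _).symm)
      | add x y _ _ hx hy => exact add_mem hx hy
      | mul x y _ _ hx hy => exact mul_mem hx hy
    intro x hx
    exact hT x hx
  · refine isOpenImmersion_of_awayMap B.val.toRingHom fun q => ?_
    obtain ⟨p, hp, hq⟩ : ∃ p ∈ t, q ∈ PrimeSpectrum.basicOpen (r p).1 := by simpa using ht (Set.mem_univ q)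
    have hle : S' p ≤ B := by
      intro x hx
      have hg : (gen p : Set R) ⊆ (B : Set R) := fun y hy => Algebra.subset_adjoin (show y ∈ U from
        ⟨hU₀ (Finset.mem_biUnion.mpr ⟨p, hp, hy⟩), hsC p y ((hgen p).le (Submodule.subset_span hy))⟩)
      exact (Submodule.span_le.mpr hg : Submodule.span S (gen p : Set R) ≤ B.toSubmodule) ((hgen p).ge hx)
    refine ⟨⟨(r p).1, hle (r p).2⟩, hq, ?_, ?_⟩
    · exact IsLocalization.map_injective_of_injective (S := Localization.Away (⟨(r p).1, hle (r p).2⟩ : B)) _ _
        Subtype.val_injective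
    · intro x
      obtain ⟨y, hy⟩ := (hbij p).2 x
      refine ⟨Localization.awayMap (Subalgebra.inclusion hle).toRingHom (r p) y, Eq.trans ?_ hy⟩
      refine RingHom.congr_fun (f := (Localization.awayMap B.val.toRingHom (⟨(r p).1, hle (r p).2⟩ : B)).comp
        (Localization.awayMap (Subalgebra.inclusion hle).toRingHom (r p))) ?_ y
      refine IsLocalization.ringHom_ext (Submonoid.powers (r p)) (RingHom.ext fun z => ?_)
      simp only [RingHom.comp_apply, Localization.awayMap, IsLocalization.Away.map]
      erw [IsLocalization.map_eq, IsLocalization.map_eq, IsLocalization.map_eq]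
      rfl

end Groth.Agent.GITZMT
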