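import Groth.Agent.ComodLib.ReducedSmooth
import Groth.Agent.ComodLib.CartierChar0
import Groth.Agent.ComodLib.Basic
import Groth.Prelude.Def_GLin
import Groth.Prelude.Def_ComodSub
import Mathlib.RingTheory.Smooth.IntegralClosure

/-!
# Integral closures are stable under actions of smooth groups
-/

set_option autoImplicit false
set_option linter.style.haveILetI false

universe u

open TensorProduct WithConv

namespace Groth.Agent.GITZMT

/-- A Hopf algebra of finite type over an algebraically closed field of characteristic zero is smooth. -/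
theorem smooth_hopf {k : Type u} [Field k] [IsAlgClosed k] [CharZero k] {A : Type u} [CommRing A] [HopfAlgebra k A]
    [Algebra.FiniteType k A] : Algebra.Smooth k A := by
  haveI : _root_.IsReduced A := ComodLib.isReduced_of_charZero' (k := k)
  haveI : IsNoetherianRing k := inferInstance
  refine ⟨ComodLib.RedSm.formallySmooth_of_transitive fun g h => ?_, Algebra.FinitePresentation.of_finiteType.mp inferInstance⟩
  let a : WithConv (A →ₐ[k] k) := toConv h * (toConv g)⁻¹
  have inv : ∀ b : WithConv (A →ₐ[k] k),
      (ComodLib.translatePt (b⁻¹).ofConv).comp (ComodLib.translatePt b.ofConv) = AlgHom.id k A := by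
    intro b
    rw [ComodLib.translatePt_comp, show toConv b.ofConv * toConv (b⁻¹).ofConv = 1 from mul_inv_cancel b]
    exact ComodLib.translatePt_counit
  refine ⟨AlgEquiv.ofAlgHom (ComodLib.translatePt a.ofConv) (ComodLib.translatePt (a⁻¹).ofConv)
    (by simpa using inv (a⁻¹)) (inv a), ?_⟩
  have h1 := ComodLib.convMul_ofConv a (toConv g)
  rw [inv_mul_cancel_right] at h1
  exact h1

variable {k : Type u} [Field k] {A : Type u} [CommRing A] [HopfAlgebra k A]
  {S : Type u} [CommRing S] [Algebra k S] [HopfRep.Comod k A S] [GLin.IsCoactAlg k A S]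
  {R : Type u} [CommRing R] [Algebra k R] [HopfRep.Comod k A R] [GLin.IsCoactAlg k A R]
  [Algebra S R] [IsScalarTower k S R]

/-- The coaction carries the integral closure to the integral closure. -/
theorem coact_mem [Algebra.Smooth k A]
    (hequiv : ∀ s : S, HopfRep.Comod.coact (k := k) (A := A) (algebraMap S R s) =
      Algebra.TensorProduct.map (IsScalarTower.toAlgHom k S R) (AlgHom.id k A) (HopfRep.Comod.coact (k := k) (A := A) s))
    {c : R} (hc : IsIntegral S c) :
    HopfRep.Comod.coact (k := k) (A := A) c ∈
      LinearMap.range ((((integralClosure S R).restrictScalars k).toSubmodule).subtype.rTensor A) := by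
  let SA := S ⊗[k] A
  let ψ : SA ⊗[S] R ≃+* R ⊗[k] A :=
    ((Algebra.TensorProduct.comm S SA R).toRingEquiv).trans
      (Algebra.TensorProduct.cancelBaseChange k S S R A).toRingEquiv
  have hψ : ∀ (s : S) (a : A) (r : R), ψ ((s ⊗ₜ[k] a) ⊗ₜ[S] r) = (s • r) ⊗ₜ[k] a := fun s a r => by
    show Algebra.TensorProduct.cancelBaseChange k S S R A (r ⊗ₜ[S] (s ⊗ₜ[k] a)) = _
    rw [Algebra.TensorProduct.cancelBaseChange_tmul]
  let ρS : S →+* SA := (GLin.coactAlgHom k A S).toRingHom
  let ρR : R →+* R ⊗[k] A := (GLin.coactAlgHom k A R).toRingHom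
  let L : SA →+* R ⊗[k] A := (Algebra.TensorProduct.map (IsScalarTower.toAlgHom k S R) (AlgHom.id k A)).toRingHom
  have hL : L = ψ.toRingHom.comp (algebraMap SA (SA ⊗[S] R)) := by
    refine RingHom.ext fun z => ?_
    show Algebra.TensorProduct.map (IsScalarTower.toAlgHom k S R) (AlgHom.id k A) z = ψ (z ⊗ₜ[S] (1 : R))
    induction z using TensorProduct.induction_on with
    | zero => simp
    | tmul s a => rw [hψ, Algebra.TensorProduct.map_tmul, Algebra.smul_def, mul_one]; rfl
    | add x y hx hy => rw [map_add, TensorProduct.add_tmul, map_add, hx, hy]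
  obtain ⟨p, hp, he⟩ := hc
  have h1 : RingHom.IsIntegralElem L (ρR c) := by
    refine ⟨p.map ρS, hp.map ρS, ?_⟩
    rw [Polynomial.eval₂_map, show L.comp ρS = ρR.comp (algebraMap S R) from RingHom.ext fun s => (hequiv s).symm,
      ← Polynomial.hom_eval₂, he, map_zero]
  have h2 : IsIntegral SA (ψ.symm (ρR c)) := by
    obtain ⟨q, hq, hqe⟩ := h1
    refine ⟨q, hq, ψ.injective ?_⟩
    rw [map_zero]
    refine (Polynomial.hom_eval₂ q (algebraMap SA (SA ⊗[S] R)) ψ.toRingHom (ψ.symm (ρR c))).trans ?_
    rw [← hL, show ψ.toRingHom (ψ.symm (ρR c)) = ρR c from ψ.apply_symm_apply _]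
    exact hqe
  obtain ⟨y, hy⟩ := (TensorProduct.toIntegralClosure_bijective_of_smooth (R := S) (S := SA) (B := R)).2 ⟨_, h2⟩
  have h3 : ∀ y : SA ⊗[S] integralClosure S R,
      ψ ((TensorProduct.toIntegralClosure S SA R y).1) ∈
        LinearMap.range ((((integralClosure S R).restrictScalars k).toSubmodule).subtype.rTensor A) := by
    intro y
    induction y using TensorProduct.induction_on with
    | zero => simp
    | add x y hx hy => rw [map_add, Subalgebra.coe_add, map_add]; exact add_mem hx hy
    | tmul z r =>
      show ψ (z ⊗ₜ[S] r.1) ∈ _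
      induction z using TensorProduct.induction_on with
      | zero => simp
      | add x y hx hy => rw [TensorProduct.add_tmul, map_add]; exact add_mem hx hy
      | tmul s a =>
        rw [hψ]
        exact ⟨(⟨s • r.1, Subalgebra.smul_mem _ r.2 s⟩ : ((integralClosure S R).restrictScalars k).toSubmodule) ⊗ₜ[k] a, rfl⟩
  have := h3 y
  rw [hy] at this
  simpa [ρR] using this

/-- The integral closure is a subcomodule. -/
theorem isSubcomod_integralClosure [Algebra.Smooth k A]
    (hequiv : ∀ s : S, HopfRep.Comod.coact (k := k) (A := A) (algebraMap S R s) =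
      Algebra.TensorProduct.map (IsScalarTower.toAlgHom k S R) (AlgHom.id k A) (HopfRep.Comod.coact (k := k) (A := A) s)) :
    HopfRep.IsSubcomod (k := k) (A := A) ((integralClosure S R).restrictScalars k).toSubmodule :=
  fun _ hc => coact_mem hequiv hc

end Groth.Agent.GITZMT
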